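import Mathlib
import Cfsg.Prelude.Def_Local
import Cfsg.Agent.Lib.Components.PComponent
import Cfsg.Agent.Lib.Components.Orbit
import Cfsg.Agent.Lib.ZStar.LBalance

/-!
The alternatives for a standard subgroup of a group with trivial odd core.
-/

set_option autoImplicit false
open Subgroup
open scoped commutatorElement

namespace Cfsg.Agent.Lib.StandardAlt

open Cfsg Cfsg.Agent.Lib.Components

variable {G : Type*} [Group G] [Finite G] {A : Subgroup G}

/-- An element centralizing `A` modulo `Z(A)` centralizes the perfect group `A`. -/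
theorem centralizes_of_central (hperf : ⁅A, A⁆ = A) {m : G}
    (hm : ∀ a ∈ A, (m * a * m⁻¹) * a⁻¹ ∈ A ⊓ centralizer (A : Set G)) :
    m ∈ centralizer (A : Set G) := by
  have key : A ≤ centralizer ({m} : Set G) := by
    rw [← hperf, commutator_le]
    intro a ha b hb
    rw [mem_centralizer_singleton_iff]
    have hza := hm a ha
    have hzb := hm b hb
    set z := (m * a * m⁻¹) * a⁻¹ with hz
    set w := (m * b * m⁻¹) * b⁻¹ with hw
    have e1 : m * a * m⁻¹ = z * a := by rw [hz]; group
    have e2 : m * b * m⁻¹ = w * b := by rw [hw]; group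
    have h3 : m * ⁅a, b⁆ * m⁻¹ = ⁅z * a, w * b⁆ := by
      rw [← e1, ← e2]; simp only [commutatorElement_def]; group
    have cz : ∀ y ∈ A, y * z = z * y := fun y hy => mem_centralizer_iff.mp hza.2 y hy
    have cw : ∀ y ∈ A, y * w = w * y := fun y hy => mem_centralizer_iff.mp hzb.2 y hy
    have hcz : Commute z (w * b) := (cz _ (mul_mem hzb.1 hb)).symm
    have hcw : Commute w (a : G) := (cw _ ha).symm
    have h4 : ⁅z * a, w * b⁆ = ⁅a, b⁆ := by
      have u1 : ⁅z * a, w * b⁆ = z * ⁅a, w * b⁆ * z⁻¹ * ⁅z, w * b⁆ := by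
        simp only [commutatorElement_def]; group
      have u2 : ⁅a, w * b⁆ = ⁅a, w⁆ * (w * ⁅a, b⁆ * w⁻¹) := by
        simp only [commutatorElement_def]; group
      have hab : ⁅a, b⁆ ∈ A := by
        rw [commutatorElement_def]
        exact mul_mem (mul_mem (mul_mem ha hb) (inv_mem ha)) (inv_mem hb)
      rw [u1, commutatorElement_eq_one_iff_commute.mpr hcz, u2,
        commutatorElement_eq_one_iff_commute.mpr hcw.symm, one_mul, mul_one, ← cw _ hab,
        mul_inv_cancel_right, ← cz _ hab, mul_inv_cancel_right]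
    rw [h4] at h3
    symm
    calc m * ⁅a, b⁆ = (m * ⁅a, b⁆ * m⁻¹) * m := by group
      _ = ⁅a, b⁆ * m := by rw [h3]
  rw [mem_centralizer_iff]
  exact fun a ha => (mem_centralizer_singleton_iff.mp (key ha))

/-- `A` lies in one of two commuting factors with trivial intersection invariant under `t`. -/
theorem le_or_le_of_le_sup (hq : IsQuasisimple A) {t : G}
    (hCt : centralizer ({t} : Set G) ≤ normalizer (A : Set G))
    (htA : t ∈ centralizer (A : Set G)) {M₁ M₂ : Subgroup G}
    (ht1 : t ∈ normalizer (M₁ : Set G)) (ht2 : t ∈ normalizer (M₂ : Set G))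
    (hA1 : A ≤ normalizer (M₁ : Set G)) (hA2 : A ≤ normalizer (M₂ : Set G))
    (hcomm : M₁ ≤ centralizer (M₂ : Set G)) (hdisj : M₁ ⊓ M₂ = ⊥) (hA : A ≤ M₁ ⊔ M₂) :
    A ≤ M₁ ∨ A ≤ M₂ := by
  by_contra hne
  push Not at hne
  obtain ⟨h1, h2⟩ := hne
  have key : ∀ M : Subgroup G, A ≤ normalizer (M : Set G) → ¬ A ≤ M →
      ∀ m ∈ M, t * m = m * t → m ∈ centralizer (A : Set G) := by
    intro M hAM hnot m hm hmt
    have hmC : m ∈ centralizer ({t} : Set G) := mem_centralizer_singleton_iff.mpr hmt.symm
    have hmN := hCt hmC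
    refine centralizes_of_central (quasisimple_commutator_self hq) fun a ha => ?_
    have hxA : m * a * m⁻¹ * a⁻¹ ∈ A :=
      mul_mem ((mem_normalizer_iff.mp hmN a).mp ha) (inv_mem ha)
    have hxM : m * a * m⁻¹ * a⁻¹ ∈ M := by
      have := (mem_normalizer_iff.mp (hAM ha) m⁻¹).mp (inv_mem hm)
      rw [show m * a * m⁻¹ * a⁻¹ = m * (a * m⁻¹ * a⁻¹) by group]
      exact mul_mem hm this
    refine mem_inf.mpr ⟨hxA, ?_⟩
    haveI : (M.subgroupOf A).Normal := normal_subgroupOf_of_le_normalizer hAM
    rcases quasisimple_normal_eq_top_or_le_center hq (M.subgroupOf A) with h | h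
    · exact absurd (subgroupOf_eq_top.mp h) hnot
    · rw [mem_centralizer_iff]
      intro y hy
      exact congrArg Subtype.val (mem_center_iff.mp
        (h (show (⟨_, hxA⟩ : A) ∈ M.subgroupOf A from hxM)) ⟨y, hy⟩)
  refine quasisimple_not_le_centralizer hq fun a ha => ?_
  have hn : M₁ ≤ normalizer (M₂ : Set G) := hcomm.trans (centralizer_le_normalizer_self M₂)
  have ha' : a ∈ ((M₁ ⊔ M₂ : Subgroup G) : Set G) := hA ha
  rw [coe_mul_of_left_le_normalizer_right M₁ M₂ hn] at ha'
  obtain ⟨x, hx, y, hy, hxy⟩ := ha'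
  have hxy' : x * y = a := hxy
  have hfix : (t * x * t⁻¹) * (t * y * t⁻¹) = x * y := by
    rw [hxy', show t * x * t⁻¹ * (t * y * t⁻¹) = t * (x * y) * t⁻¹ by group, hxy',
      ← mem_centralizer_iff.mp htA a ha, mul_inv_cancel_right]
  have hx' := (mem_normalizer_iff.mp ht1 x).mp hx
  have hy' := (mem_normalizer_iff.mp ht2 y).mp hy
  have hz : x⁻¹ * (t * x * t⁻¹) ∈ M₁ ⊓ M₂ := by
    refine mem_inf.mpr ⟨mul_mem (inv_mem hx) hx', ?_⟩
    rw [show x⁻¹ * (t * x * t⁻¹) = y * (t * y * t⁻¹)⁻¹ by
      rw [show t * x * t⁻¹ = (x * y) * (t * y * t⁻¹)⁻¹ by rw [← hfix]; group]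
      group]
    exact mul_mem hy (inv_mem hy')
  rw [hdisj, Subgroup.mem_bot, inv_mul_eq_one] at hz
  have hxt : t * x = x * t := by
    calc t * x = (t * x * t⁻¹) * t := by group
      _ = x * t := by rw [← hz]
  have hyt : t * y = y * t := by
    rw [← hz] at hfix
    calc t * y = (t * y * t⁻¹) * t := by group
      _ = y * t := by rw [mul_left_cancel hfix]
  rw [← hxy']
  exact mul_mem (key M₁ hA1 h1 x hx hxt) (key M₂ hA2 h2 y hy hyt)

theorem normal_of_conj_eq (h : ∀ g : G, A.map (MulAut.conj g).toMonoidHom = A) : A.Normal :=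
  ⟨fun n hn g => by rw [← h g]; exact ⟨n, hn, rfl⟩⟩

/-- A standard subgroup that is a component is normal. -/
theorem normal_of_isComponent (hA : IsStandardSubgroup A) (hc : IsComponent A) : A.Normal := by
  refine normal_of_conj_eq fun g => ?_
  by_contra hne
  exact hA.2.2.1 g hne (isComponent_commutator_eq_bot hc (isComponent_conj hc g) (Ne.symm hne))

theorem mem_normalizer_of_even (hA : IsStandardSubgroup A) {g : G} {W : Subgroup G}
    (hW : W ≤ centralizer (A : Set G)) (hg : W.map (MulAut.conj g).toMonoidHom = W)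
    (hev : 2 ∣ Nat.card W) : g ∈ normalizer (A : Set G) := by
  rw [hA.2.2.2]
  by_contra hne
  refine (Nat.not_even_iff_odd.mpr (hA.2.1.2 g hne)) (even_iff_two_dvd.mpr
    (hev.trans (card_dvd_of_le (le_inf hW ?_))))
  conv_lhs => rw [← hg]
  exact map_mono hW

theorem normal_of_even_normal (hA : IsStandardSubgroup A) {W : Subgroup G} (hn : W.Normal)
    (hW : W ≤ centralizer (A : Set G)) (hev : 2 ∣ Nat.card W) : A.Normal := by
  refine normalizer_eq_top_iff.mp (eq_top_iff.mpr fun g _ => mem_normalizer_of_even hA hW ?_ hev)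
  refine layer_conj_map_eq W ?_
  rw [normalizer_eq_top_iff.mpr hn]
  exact mem_top g

theorem centralizer_le_normalizer_standard (hA : IsStandardSubgroup A) {t : G}
    (ht : orderOf t = 2) (htA : t ∈ centralizer (A : Set G)) :
    centralizer ({t} : Set G) ≤ normalizer (A : Set G) := by
  intro g hg
  refine mem_normalizer_of_even hA (W := zpowers t) (zpowers_le.mpr htA) ?_
    (by rw [Nat.card_zpowers, ht])
  rw [MonoidHom.map_zpowers]
  congr 1
  show g * t * g⁻¹ = t
  rw [mem_centralizer_singleton_iff.mp hg, mul_inv_cancel_right]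

/-- A standard subgroup of even order lies in the layer. -/
theorem le_layer_of_even (hA : IsStandardSubgroup A) (hO : oddCore G = ⊥) {t : G}
    (ht : orderOf t = 2) (htA : t ∈ centralizer (A : Set G)) (hev : 2 ∣ Nat.card A) :
    A ≤ layer G := by
  haveI : Fact (Nat.Prime 2) := ⟨Nat.prime_two⟩
  set C := centralizer ((zpowers t : Subgroup G) : Set G) with hC
  have hCle : C ≤ normalizer (A : Set G) := by
    intro g hg
    refine centralizer_le_normalizer_standard hA ht htA (mem_centralizer_singleton_iff.mpr ?_)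
    exact (mem_centralizer_iff.mp hg t (mem_zpowers t)).symm
  have hAC : A ≤ C := by
    intro a ha
    rw [hC, mem_centralizer_iff]
    rintro _ ⟨n, rfl⟩
    exact (Commute.zpow_left (show Commute t a from
      (mem_centralizer_iff.mp htA a ha).symm) n).eq
  haveI : (A.subgroupOf C).Normal := normal_subgroupOf_of_le_normalizer hCle
  have hc : IsComponent (A.subgroupOf C) :=
    ⟨Normal.isSubnormal inferInstance, (quasisimple_subgroupOf_iff hAC).mpr hA.1⟩
  have hd : 2 ∣ Nat.card (A.subgroupOf C) := by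
    rwa [Nat.card_congr (subgroupOfEquivOfLe hAC).toEquiv]
  have hT : IsPGroup 2 (zpowers t) :=
    IsPGroup.of_card (n := 1) (by rw [Nat.card_zpowers, ht, pow_one])
  have h1 := (map_mono (f := C.subtype)
    (isPComponent_le_pLayer (isComponent_isPComponent (p := 2) hc hd))).trans
      (ZStar.LBalance.pLayer_centralizer_le hT)
  rwa [map_subgroupOf_eq_of_le hAC, pLayer_of_pPrimeCore_eq_bot hO] at h1

theorem eq_bot_of_not_even (hO : oddCore G = ⊥) {W : Subgroup G} (hn : W.Normal)
    (hev : ¬ 2 ∣ Nat.card W) : W = ⊥ :=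
  le_bot_iff.mp (hO ▸ le_sSup ⟨hn, (Nat.prime_two.coprime_iff_not_dvd.mpr hev).symm⟩)

/-- The three alternatives for a standard subgroup inside the layer. -/
theorem trichotomy (hA : IsStandardSubgroup A) (hO : oddCore G = ⊥) {t : G} (ht : orderOf t = 2)
    (htA : t ∈ centralizer (A : Set G)) (hAE : A ≤ layer G) :
    A.Normal ∨ (∃ X : Subgroup G, IsSimpleGroup ↥X ∧ ¬ IsMulCommutative ↥X ∧ Nonempty (↥X ≃* ↥A) ∧
      (∀ a ∈ X, ∀ b ∈ X.map (MulAut.conj t).toMonoidHom, a * b = b * a) ∧
      X ⊓ X.map (MulAut.conj t).toMonoidHom = ⊥ ∧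
      X ⊔ X.map (MulAut.conj t).toMonoidHom = layer G ∧
      centralizer (A : Set G) = zpowers t) ∨
    (A ≤ layer G ∧ IsSimpleGroup ↥(layer G) ∧ ¬ IsMulCommutative ↥(layer G)) := by
  classical
  haveI : Fact (Nat.Prime 2) := ⟨Nat.prime_two⟩
  by_cases hN : A.Normal
  · exact Or.inl hN
  haveI : (layer G).Normal := layer_normal
  -- the layer has trivial centralizer
  have hCE : centralizer (layer G : Set G) = ⊥ := by
    have hle : centralizer (layer G : Set G) ≤ centralizer (A : Set G) :=
      centralizer_le (fun _ hx => hAE hx)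
    exact eq_bot_of_not_even hO inferInstance fun hev =>
      hN (normal_of_even_normal hA inferInstance hle hev)
  have one_of_central : ∀ x : G, (∀ D : Subgroup G, IsComponent D →
      D ≤ centralizer ({x} : Set G)) → x = 1 := by
    intro x hx
    rw [← Subgroup.mem_bot, ← hCE, mem_centralizer_iff]
    exact fun y hy => mem_centralizer_singleton_iff.mp (layer_le_iff.mpr hx hy)
  have hsimple : ∀ L : Subgroup G, IsComponent L → IsSimpleGroup L := by
    intro L hL
    haveI : Nontrivial L := quasisimple_nontrivial hL.2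
    refine ⟨fun N hNn => ?_⟩
    haveI := hNn
    rcases quasisimple_normal_eq_top_or_le_center hL.2 N with h | h
    · exact Or.inr h
    · refine Or.inl (eq_bot_iff.mpr fun z hz => ?_)
      rw [Subgroup.mem_bot]
      refine Subtype.ext (one_of_central z fun D hD y hy => ?_)
      rw [mem_centralizer_singleton_iff]
      by_cases hDL : D = L
      · subst hDL
        exact congrArg Subtype.val (mem_center_iff.mp (h hz) ⟨y, hy⟩)
      · exact (mem_centralizer_iff.mp (isComponent_le_centralizer hD hL hDL hy) z z.2).symm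
  set c := (MulAut.conj t).toMonoidHom with hc
  have htt : t * t = 1 := by rw [← sq, ← ht, pow_orderOf_eq_one]
  have hcc : ∀ L : Subgroup G, (L.map c).map c = L := fun L => by
    rw [hc, map_conj_map_conj, htt, map_conj_one]
  have hCt := centralizer_le_normalizer_standard hA ht htA
  -- the sets of components invariant under t
  set Good : Set (Set (Subgroup G)) :=
    {S | (∀ D ∈ S, IsComponent D) ∧ (∀ D ∈ S, D.map c ∈ S) ∧ A ≤ sSup S}
  obtain ⟨S, hS, hSmin⟩ := Set.exists_min_image Good (fun S => S.ncard) (Set.toFinite _)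
    ⟨{D | IsComponent D}, fun _ h => h, fun _ h => isComponent_conj h t, hAE⟩
  obtain ⟨hScomp, hSinv, hSA⟩ := hS
  obtain ⟨L, hLS⟩ : S.Nonempty := by
    rw [Set.nonempty_iff_ne_empty]
    rintro rfl
    rw [sSup_empty] at hSA
    exact quasisimple_ne_bot hA.1 (le_bot_iff.mp hSA)
  have hL : IsComponent L := hScomp L hLS
  have hL' : IsComponent (L.map c) := isComponent_conj hL t
  set P : Subgroup G := L ⊔ L.map c with hP
  have hPt : t ∈ normalizer (P : Set G) := by
    rw [mem_normalizer_iff_map_conj_eq]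
    show P.map c = P
    rw [hP, Subgroup.map_sup, hcc, sup_comm]
  have hPE : layer G ≤ normalizer (P : Set G) := fun x hx => by
    rw [mem_normalizer_iff_map_conj_eq]
    show P.map (MulAut.conj x).toMonoidHom = P
    rw [hP, Subgroup.map_sup, layer_conj_map_eq L (layer_le_normalizer_component hL hx),
      layer_conj_map_eq _ (layer_le_normalizer_component hL' hx)]
  have hAP : A ≤ P := by
    set S' := S \ {L, L.map c} with hS'
    set M := sSup S' with hM
    have hcomp' : ∀ D ∈ S', IsComponent D := fun D hD => hScomp D hD.1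
    have hinv' : ∀ D ∈ S', D.map c ∈ S' := by
      intro D hD
      refine ⟨hSinv D hD.1, fun hmem => hD.2 ?_⟩
      rcases hmem with h | h
      · exact Or.inr (by rw [Set.mem_singleton_iff, ← h, hcc])
      · exact Or.inl (by rw [← hcc D, Set.mem_singleton_iff.mp h, hcc])
    have hMt : t ∈ normalizer (M : Set G) := by
      rw [mem_normalizer_iff_map_conj_eq]
      show M.map c = M
      have h1 : M.map c ≤ M := map_le_iff_le_comap.mpr (sSup_le fun D hD =>
        map_le_iff_le_comap.mp (le_sSup (hinv' D hD)))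
      refine le_antisymm h1 ?_
      calc M = (M.map c).map c := (hcc M).symm
        _ ≤ M.map c := map_mono h1
    have hME : layer G ≤ normalizer (M : Set G) := fun x hx => by
      rw [mem_normalizer_iff_map_conj_eq]
      show M.map (MulAut.conj x).toMonoidHom = M
      rw [hM, sSup_eq_iSup, Subgroup.map_iSup]
      refine iSup_congr fun D => ?_
      rw [Subgroup.map_iSup]
      exact iSup_congr fun hD =>
        layer_conj_map_eq D (layer_le_normalizer_component (hcomp' D hD) hx)
    have hcP : ∀ D ∈ S', D ≤ centralizer (P : Set G) := by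
      intro D hD
      rw [← commutator_eq_bot_iff_le_centralizer, Subgroup.commutator_comm,
        commutator_eq_bot_iff_le_centralizer]
      exact sup_le (isComponent_le_centralizer hL (hcomp' D hD) fun h => hD.2 (Or.inl h.symm))
        (isComponent_le_centralizer hL' (hcomp' D hD) fun h => hD.2 (Or.inr h.symm))
    have hMP : M ≤ centralizer (P : Set G) := sSup_le hcP
    have hPM : P ≤ centralizer (M : Set G) := le_centralizer_iff.mp hMP
    have hdisj : P ⊓ M = ⊥ := by
      refine eq_bot_iff.mpr fun x hx => Subgroup.mem_bot.mpr (one_of_central x fun D hD y hy => ?_)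
      rw [mem_centralizer_singleton_iff]
      by_cases hDS : D ∈ S'
      · exact (mem_centralizer_iff.mp (hcP D hDS hy) x hx.1).symm
      · have h2 : M ≤ centralizer (D : Set G) := sSup_le fun E hE =>
          isComponent_le_centralizer (hcomp' E hE) hD fun h => hDS (h ▸ hE)
        exact mem_centralizer_iff.mp (h2 hx.2) y hy
    have hsup : A ≤ P ⊔ M := by
      refine hSA.trans (sSup_le fun D hD => ?_)
      by_cases hDS : D ∈ S'
      · exact le_sup_of_le_right (le_sSup hDS)
      · rw [hS', Set.mem_sdiff, not_and, not_not] at hDS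
        rcases hDS hD with h | h
        · exact le_sup_of_le_left (h ▸ le_sup_left)
        · exact le_sup_of_le_left (Set.mem_singleton_iff.mp h ▸ le_sup_right)
    rcases le_or_le_of_le_sup hA.1 hCt htA hPt hMt (hAE.trans hPE) (hAE.trans hME) hPM hdisj hsup
      with h | h
    · exact h
    · exfalso
      have := hSmin S' ⟨hcomp', hinv', h⟩
      have hlt : S'.ncard < S.ncard := Set.ncard_lt_ncard
        (Set.ssubset_iff_of_subset Set.sdiff_subset |>.mpr ⟨L, hLS, fun h' => h'.2 (Or.inl rfl)⟩)
        (Set.toFinite _)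
      omega
  -- every component is L or L'
  have honly : ∀ D : Subgroup G, IsComponent D → D = L ∨ D = L.map c := by
    intro D hD
    by_contra hne
    push Not at hne
    have hDK : D ≤ centralizer (A : Set G) := by
      rw [le_centralizer_iff]
      exact hAP.trans (sup_le (isComponent_le_centralizer hL hD (Ne.symm hne.1))
        (isComponent_le_centralizer hL' hD (Ne.symm hne.2)))
    have hEN : layer G ≤ normalizer (A : Set G) := fun g hg =>
      mem_normalizer_of_even hA hDK (layer_conj_map_eq D (layer_le_normalizer_component hD hg))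
        (isComponent_dvd_card hO hD)
    refine hN (normal_of_isComponent hA ⟨?_, hA.1⟩)
    haveI : (A.subgroupOf (layer G)).Normal := normal_subgroupOf_of_le_normalizer hEN
    have h1 := (Normal.isSubnormal (H := A.subgroupOf (layer G)) inferInstance).trans'
      (layer_isSubnormal (G := G))
    rwa [map_subgroupOf_eq_of_le hAE] at h1
  have hlay : layer G = P := le_antisymm
    (layer_le_iff.mpr fun D hD => by
      rcases honly D hD with rfl | rfl
      · exact le_sup_left
      · exact le_sup_right)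
    (sup_le (isComponent_le_layer hL) (isComponent_le_layer hL'))
  by_cases hLL : L.map c = L
  · refine Or.inr (Or.inr ⟨hAE, ?_⟩)
    rw [hlay, hP, hLL, sup_idem]
    exact ⟨hsimple L hL, quasisimple_not_isMulCommutative hL.2⟩
  refine Or.inr (Or.inl ?_)
  have hcomm : ∀ a ∈ L, ∀ b ∈ L.map c, a * b = b * a := fun a ha b hb =>
    mem_centralizer_iff.mp (isComponent_le_centralizer hL' hL hLL hb) a ha
  have hdisj : L ⊓ L.map c = ⊥ := by
    refine eq_bot_iff.mpr fun x hx => Subgroup.mem_bot.mpr (one_of_central x fun D hD y hy => ?_)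
    rw [mem_centralizer_singleton_iff]
    rcases honly D hD with rfl | rfl
    · exact hcomm y hy x hx.2
    · exact (hcomm x hx.1 y hy).symm
  have hconjt : ∀ x ∈ L, t * x * t⁻¹ ∈ L.map c := fun x hx => ⟨x, hx, rfl⟩
  have hconjt' : ∀ x ∈ L.map c, t * x * t⁻¹ ∈ L := fun x hx => by
    rw [← hcc L]; exact ⟨x, hx, rfl⟩
  have uniq : ∀ x ∈ L, ∀ x' ∈ L, ∀ y ∈ L.map c, ∀ y' ∈ L.map c,
      x * y = x' * y' → x = x' ∧ y = y' := by
    intro x hx x' hx' y hy y' hy' h
    have h1 : x'⁻¹ * x = y' * y⁻¹ := by
      rw [show x'⁻¹ * x = x'⁻¹ * (x * y) * y⁻¹ by group, h]; group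
    have h2 : x'⁻¹ * x ∈ L ⊓ L.map c := mem_inf.mpr
      ⟨mul_mem (inv_mem hx') hx, h1 ▸ mul_mem hy' (inv_mem hy)⟩
    rw [hdisj, Subgroup.mem_bot, inv_mul_eq_one] at h2
    subst h2
    exact ⟨rfl, mul_left_cancel h⟩
  let d : L →* G :=
    { toFun := fun x => (x : G) * (t * x * t⁻¹)
      map_one' := by simp
      map_mul' := fun x y => by
        have h := hcomm y y.2 _ (hconjt x x.2)
        push_cast
        calc (x : G) * y * (t * (x * y) * t⁻¹)
            = x * ((y : G) * (t * x * t⁻¹)) * (t * y * t⁻¹) := by group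
          _ = x * ((t * x * t⁻¹) * y) * (t * y * t⁻¹) := by rw [h]
          _ = x * (t * x * t⁻¹) * (y * (t * y * t⁻¹)) := by group }
  have hd : ∀ x : L, d x = (x : G) * (t * x * t⁻¹) := fun _ => rfl
  have hdinj : Function.Injective d := by
    intro x y h
    rw [hd, hd] at h
    exact Subtype.ext (uniq x x.2 y y.2 _ (hconjt x x.2) _ (hconjt y y.2) h).1
  have htinv : t⁻¹ = t := inv_eq_of_mul_eq_one_right htt
  have hdt : ∀ x : L, d x ∈ centralizer ({t} : Set G) := by
    intro x
    rw [mem_centralizer_singleton_iff, hd]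
    have h := hcomm x x.2 _ (hconjt x x.2)
    rw [htinv] at h ⊢
    calc (x : G) * (t * x * t) * t = x * (t * x) * (t * t) := by simp only [mul_assoc]
      _ = (t * t) * x * (t * x) := by rw [htt, mul_one, one_mul]
      _ = t * (t * x * t * x) := by simp only [mul_assoc]
      _ = t * (x * (t * x * t)) := by rw [h]
  have hLP : d.range = P ⊓ centralizer ({t} : Set G) := by
    refine le_antisymm ?_ ?_
    · rintro _ ⟨x, rfl⟩
      exact ⟨mul_mem (mem_sup_left x.2) (mem_sup_right (hconjt x x.2)), hdt x⟩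
    · rintro m ⟨hm, hmt⟩
      have hm' : m ∈ ((L ⊔ L.map c : Subgroup G) : Set G) := hm
      rw [coe_mul_of_left_le_normalizer_right L (L.map c)
        ((isComponent_le_centralizer hL hL' (Ne.symm hLL)).trans
          (centralizer_le_normalizer_self _))] at hm'
      obtain ⟨x, hx, y, hy, hxy⟩ := hm'
      have hxy' : x * y = m := hxy
      have h1 : (t * y * t⁻¹) * (t * x * t⁻¹) = x * y := by
        rw [show t * y * t⁻¹ * (t * x * t⁻¹) = t * (y * x) * t⁻¹ by group, ← hcomm x hx y hy,
          hxy', ← mem_centralizer_singleton_iff.mp hmt, mul_inv_cancel_right]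
      obtain ⟨-, h3⟩ := uniq _ (hconjt' y hy) x hx _ (hconjt x hx) y hy h1
      exact ⟨⟨x, hx⟩, by rw [hd, ← hxy']; show x * (t * x * t⁻¹) = x * y; rw [h3]⟩
  have hAd : A ≤ d.range := by
    rw [hLP]
    exact le_inf hAP fun a ha =>
      mem_centralizer_singleton_iff.mpr (mem_centralizer_iff.mp htA a ha)
  have hAeq : A = d.range := by
    haveI : (A.comap d).Normal := ⟨fun n hn g => by
      have h1 : d g ∈ normalizer (A : Set G) := hCt (hdt g)
      show d (g * n * g⁻¹) ∈ A
      rw [map_mul, map_mul, map_inv]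
      exact (mem_normalizer_iff.mp h1 _).mp hn⟩
    rcases (hsimple L hL).eq_bot_or_eq_top_of_normal (A.comap d) inferInstance with h | h
    · refine absurd ?_ (quasisimple_ne_bot hA.1)
      refine eq_bot_iff.mpr fun a ha => ?_
      obtain ⟨x, rfl⟩ := hAd ha
      have : x ∈ A.comap d := ha
      rw [h, Subgroup.mem_bot] at this
      rw [this, map_one]
      exact one_mem _
    · refine le_antisymm hAd ?_
      rintro _ ⟨x, rfl⟩
      exact (h ▸ mem_top x : x ∈ A.comap d)
  have one_of_fix : ∀ k ∈ centralizer (A : Set G), L.map (MulAut.conj k).toMonoidHom = L →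
      k = 1 := by
    intro k hk hkL
    have hkL' : (L.map c).map (MulAut.conj k).toMonoidHom = L.map c := by
      rcases honly _ (isComponent_conj hL' k) with h | h
      · exfalso
        exact hLL (map_injective (f := (MulAut.conj k).toMonoidHom) (MulAut.conj k).injective
          (h.trans hkL.symm))
      · exact h
    have hfix : ∀ x ∈ L, k * x * k⁻¹ = x ∧ k * (t * x * t⁻¹) * k⁻¹ = t * x * t⁻¹ := by
      intro x hx
      have hxA : x * (t * x * t⁻¹) ∈ A := by rw [hAeq]; exact ⟨⟨x, hx⟩, rfl⟩
      have e := mem_centralizer_iff.mp hk _ hxA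
      refine uniq _ ?_ x hx _ ?_ _ (hconjt x hx) ?_
      · exact hkL.le ⟨x, hx, rfl⟩
      · exact hkL'.le ⟨_, hconjt x hx, rfl⟩
      · rw [show k * x * k⁻¹ * (k * (t * x * t⁻¹) * k⁻¹) = k * (x * (t * x * t⁻¹)) * k⁻¹ by group,
          ← e, mul_inv_cancel_right]
    refine one_of_central k fun D hD y hy => ?_
    rw [mem_centralizer_singleton_iff]
    rcases honly D hD with rfl | rfl
    · calc y * k = k * y * k⁻¹ * k := by rw [(hfix y hy).1]
        _ = k * y := by group
    · obtain ⟨x, hx, rfl⟩ := hy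
      show t * x * t⁻¹ * k = k * (t * x * t⁻¹)
      calc t * x * t⁻¹ * k = k * (t * x * t⁻¹) * k⁻¹ * k := by rw [(hfix x hx).2]
        _ = _ := by group
  refine ⟨L, hsimple L hL, quasisimple_not_isMulCommutative hL.2,
    ⟨(MonoidHom.ofInjective hdinj).trans (MulEquiv.subgroupCongr hAeq.symm)⟩, hcomm, hdisj,
    hlay.symm, le_antisymm ?_ (zpowers_le.mpr htA)⟩
  intro k hk
  rcases honly _ (isComponent_conj hL k) with h | h
  · rw [one_of_fix k hk h]
    exact one_mem _
  · have h2 : L.map (MulAut.conj (t * k)).toMonoidHom = L := by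
      rw [← map_conj_map_conj t k L, h, ← hc, hcc]
    have h3 := one_of_fix (t * k) (mul_mem htA hk) h2
    rw [show k = t⁻¹ by exact (eq_inv_of_mul_eq_one_right h3)]
    exact inv_mem (mem_zpowers t)

end Cfsg.Agent.Lib.StandardAlt
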