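import Mathlib
import Cfsg.Prelude.Def_Local
import Cfsg.Agent.Lib.StandardAlt.Main

/-!
Components of the centralizer of an involution inside the layer.
-/

set_option autoImplicit false
open Subgroup
open scoped commutatorElement

namespace Cfsg.Agent.Lib.StandardAlt

open Cfsg Cfsg.Agent.Lib.Components

variable {G : Type*} [Group G] [Finite G] {t : G} {L : Subgroup G}

theorem quasisimple_le_or_le (hq : IsQuasisimple L) (hLt : L ≤ centralizer ({t} : Set G))
    (hsub : (L.subgroupOf (centralizer ({t} : Set G))).IsSubnormal) {M₁ M₂ : Subgroup G}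
    (ht1 : t ∈ normalizer (M₁ : Set G)) (ht2 : t ∈ normalizer (M₂ : Set G))
    (hcomm : M₁ ≤ centralizer (M₂ : Set G)) (hL : L ≤ M₁ ⊔ M₂) : L ≤ M₁ ∨ L ≤ M₂ := by
  by_contra hne
  push Not at hne
  obtain ⟨h1, h2⟩ := hne
  set C := centralizer ({t} : Set G) with hC
  set H := (M₁ ⊔ M₂) ⊓ C with hH
  have hLH : L ≤ H := le_inf hL hLt
  have hsubH : (L.subgroupOf H).IsSubnormal :=
    hsub.comap (Subgroup.inclusion (inf_le_right : H ≤ C))
  have hcompL : IsComponent (L.subgroupOf H) := ⟨hsubH, (quasisimple_subgroupOf_iff hLH).mpr hq⟩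
  have hnorm : ∀ M, M ≤ M₁ ⊔ M₂ → M₁ ⊔ M₂ ≤ normalizer (M : Set G) → ¬ L ≤ M →
      ∀ m ∈ M, m ∈ C → m ∈ centralizer (L : Set G) := by
    intro M hMle hMn hnot m hm hmC
    haveI : ((M ⊓ C).subgroupOf H).Normal := ⟨fun n hn g => by
      rw [Subgroup.mem_subgroupOf, Subgroup.mem_inf] at hn ⊢
      exact ⟨(mem_normalizer_iff.mp (hMn g.2.1) _).mp hn.1,
        mul_mem (mul_mem g.2.2 hn.2) (inv_mem g.2.2)⟩⟩
    have hnle : ¬ L.subgroupOf H ≤ (M ⊓ C).subgroupOf H := fun h => hnot fun x hx =>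
      (h (show (⟨x, hLH hx⟩ : H) ∈ L.subgroupOf H from hx)).1
    have h3 := isComponent_le_centralizer_of_not_le hcompL
      (Normal.isSubnormal (H := (M ⊓ C).subgroupOf H) inferInstance) hnle
    rw [mem_centralizer_iff]
    intro x hx
    have hmH : m ∈ H := mem_inf.mpr ⟨hMle hm, hmC⟩
    exact (congrArg Subtype.val (mem_centralizer_iff.mp
      (h3 (show (⟨x, hLH hx⟩ : H) ∈ L.subgroupOf H from hx)) ⟨m, hmH⟩
      (mem_inf.mpr ⟨hm, hmC⟩))).symm
  have hn : M₁ ≤ normalizer (M₂ : Set G) := hcomm.trans (centralizer_le_normalizer_self M₂)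
  have hn' : M₂ ≤ normalizer (M₁ : Set G) :=
    (le_centralizer_iff.mp hcomm).trans (centralizer_le_normalizer_self M₁)
  refine quasisimple_not_le_centralizer hq ((quasisimple_commutator_self hq).symm.le.trans ?_)
  rw [commutator_le]
  intro a ha b hb
  have hdec : ∀ x ∈ L, ∃ p ∈ M₁, ∃ q ∈ M₂, p * q = x := by
    intro x hx
    have hx' : x ∈ ((M₁ ⊔ M₂ : Subgroup G) : Set G) := hL hx
    rw [coe_mul_of_left_le_normalizer_right M₁ M₂ hn] at hx'
    obtain ⟨p, hp, q, hq', hpq⟩ := hx'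
    exact ⟨p, hp, q, hq', hpq⟩
  obtain ⟨a₁, ha₁, a₂, ha₂, rfl⟩ := hdec a ha
  obtain ⟨b₁, hb₁, b₂, hb₂, rfl⟩ := hdec b hb
  have hc : ∀ p ∈ M₁, ∀ q ∈ M₂, Commute p q := fun p hp q hq' =>
    (mem_centralizer_iff.mp (hcomm hp) q hq').symm
  -- the map x ↦ t x t⁻¹ moves each factor only by a central element
  have hshift : ∀ p ∈ M₁, ∀ q ∈ M₂, p * q ∈ C →
      p⁻¹ * (t * p * t⁻¹) ∈ M₁ ⊓ M₂ ∧ q * (t * q * t⁻¹)⁻¹ ∈ M₁ ⊓ M₂ := by
    intro p hp q hq' hpq
    have hp' := (mem_normalizer_iff.mp ht1 p).mp hp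
    have hq'' := (mem_normalizer_iff.mp ht2 q).mp hq'
    have e : (t * p * t⁻¹) * (t * q * t⁻¹) = p * q := by
      rw [show t * p * t⁻¹ * (t * q * t⁻¹) = t * (p * q) * t⁻¹ by group,
        ← mem_centralizer_singleton_iff.mp hpq, mul_inv_cancel_right]
    have e' : p⁻¹ * (t * p * t⁻¹) = q * (t * q * t⁻¹)⁻¹ := by
      rw [show t * p * t⁻¹ = (p * q) * (t * q * t⁻¹)⁻¹ by rw [← e]; group]
      group
    have hm : p⁻¹ * (t * p * t⁻¹) ∈ M₁ ⊓ M₂ :=
      mem_inf.mpr ⟨mul_mem (inv_mem hp) hp', e' ▸ mul_mem hq' (inv_mem hq'')⟩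
    exact ⟨hm, e' ▸ hm⟩
  have comm_fix : ∀ (M : Subgroup G) (x y z w : G), x ∈ M → y ∈ M →
      t * x * t⁻¹ = x * z → t * y * t⁻¹ = y * w →
      (∀ m ∈ M, Commute z m) → (∀ m ∈ M, Commute w m) → z ∈ M → ⁅x, y⁆ ∈ C := by
    intro M x y z w hx hy hxz hyw hz hw hzM
    rw [hC, mem_centralizer_singleton_iff]
    have h : t * ⁅x, y⁆ * t⁻¹ = ⁅x, y⁆ := by
      have e1 : t * ⁅x, y⁆ * t⁻¹ = ⁅t * x * t⁻¹, t * y * t⁻¹⁆ := by
        simp only [commutatorElement_def]; group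
      have u1 : ⁅x * z, y * w⁆ = x * ⁅z, y * w⁆ * x⁻¹ * ⁅x, y * w⁆ := by
        simp only [commutatorElement_def]; group
      have u2 : ⁅x, y * w⁆ = ⁅x, y⁆ * (y * ⁅x, w⁆ * y⁻¹) := by
        simp only [commutatorElement_def]; group
      have c1 : Commute z (y * w) := (hz y hy).mul_right (hw z hzM).symm
      rw [e1, hxz, hyw, u1, commutatorElement_eq_one_iff_commute.mpr c1, u2,
        commutatorElement_eq_one_iff_commute.mpr (hw x hx).symm]
      simp
    calc ⁅x, y⁆ * t = t * ⁅x, y⁆ * t⁻¹ * t := by rw [h]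
      _ = t * ⁅x, y⁆ := by group
  have hcent : ∀ z ∈ M₁ ⊓ M₂, (∀ m ∈ M₁, Commute z m) ∧ (∀ m ∈ M₂, Commute z m) := fun z hz =>
    ⟨fun m hm => (hc m hm z hz.2).symm, fun m hm => hc z hz.1 m hm⟩
  obtain ⟨za, za'⟩ := hshift a₁ ha₁ a₂ ha₂ (hLt ha)
  obtain ⟨zb, zb'⟩ := hshift b₁ hb₁ b₂ hb₂ (hLt hb)
  have k1 : ⁅a₁, b₁⁆ ∈ centralizer (L : Set G) := by
    refine hnorm M₁ le_sup_left (sup_le le_normalizer hn') h1 _ ?_ ?_
    · rw [commutatorElement_def]
      exact mul_mem (mul_mem (mul_mem ha₁ hb₁) (inv_mem ha₁)) (inv_mem hb₁)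
    · exact comm_fix M₁ a₁ b₁ (a₁⁻¹ * (t * a₁ * t⁻¹)) (b₁⁻¹ * (t * b₁ * t⁻¹)) ha₁ hb₁
        (by group) (by group) (hcent _ za).1 (hcent _ zb).1 za.1
  have k2 : ⁅a₂, b₂⁆ ∈ centralizer (L : Set G) := by
    refine hnorm M₂ le_sup_right (sup_le hn le_normalizer) h2 _ ?_ ?_
    · rw [commutatorElement_def]
      exact mul_mem (mul_mem (mul_mem ha₂ hb₂) (inv_mem ha₂)) (inv_mem hb₂)
    · have za2 := inv_mem za'
      have zb2 := inv_mem zb'
      refine comm_fix M₂ a₂ b₂ (a₂ * (t * a₂ * t⁻¹)⁻¹)⁻¹ (b₂ * (t * b₂ * t⁻¹)⁻¹)⁻¹ ha₂ hb₂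
        ?_ ?_ (hcent _ za2).2 (hcent _ zb2).2 za2.2
      · rw [← ((hcent _ za2).2 a₂ ha₂).eq]; group
      · rw [← ((hcent _ zb2).2 b₂ hb₂).eq]; group
  have key : ⁅a₁ * a₂, b₁ * b₂⁆ = ⁅a₁, b₁⁆ * ⁅a₂, b₂⁆ := by
    have c1 := hc b₁ hb₁ a₂ ha₂
    have c3 := hc a₁ ha₁ b₂ hb₂
    have c4 := hc a₁ ha₁ a₂ ha₂
    have c5 := hc b₁ hb₁ b₂ hb₂
    have hm : ∀ m ∈ M₁, ∀ n ∈ M₂, m * n = n * m := fun m hm n hn => (hc m hm n hn).eq
    rw [commutatorElement_def, mul_inv_rev, mul_inv_rev]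
    calc a₁ * a₂ * (b₁ * b₂) * (a₂⁻¹ * a₁⁻¹) * (b₂⁻¹ * b₁⁻¹)
        = a₁ * (a₂ * b₁) * (b₂ * a₂⁻¹ * (a₁⁻¹ * b₂⁻¹)) * b₁⁻¹ := by group
      _ = a₁ * (b₁ * a₂) * (b₂ * a₂⁻¹ * (b₂⁻¹ * a₁⁻¹)) * b₁⁻¹ := by
          rw [c1.eq, (hc a₁⁻¹ (inv_mem ha₁) b₂⁻¹ (inv_mem hb₂)).eq]
      _ = a₁ * b₁ * ((a₂ * b₂ * a₂⁻¹ * b₂⁻¹) * (a₁⁻¹ * b₁⁻¹)) := by group
      _ = a₁ * b₁ * ((a₁⁻¹ * b₁⁻¹) * (a₂ * b₂ * a₂⁻¹ * b₂⁻¹)) := by
          rw [hm (a₁⁻¹ * b₁⁻¹) (mul_mem (inv_mem ha₁) (inv_mem hb₁))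
            (a₂ * b₂ * a₂⁻¹ * b₂⁻¹)
            (mul_mem (mul_mem (mul_mem ha₂ hb₂) (inv_mem ha₂)) (inv_mem hb₂))]
      _ = _ := by simp only [commutatorElement_def]; group
  rw [key]
  exact mul_mem k1 k2

/-- A quasisimple subnormal subgroup of `C(t)` inside the layer lies in one orbit product. -/
theorem exists_component_le_orbit (ht : t * t = 1) (hq : IsQuasisimple L)
    (hLt : L ≤ centralizer ({t} : Set G))
    (hsub : (L.subgroupOf (centralizer ({t} : Set G))).IsSubnormal) (hLE : L ≤ layer G) :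
    ∃ D : Subgroup G, IsComponent D ∧ L ≤ D ⊔ D.map (MulAut.conj t).toMonoidHom := by
  classical
  set c := (MulAut.conj t).toMonoidHom with hc
  have hcc : ∀ L : Subgroup G, (L.map c).map c = L := fun L => by
    rw [hc, map_conj_map_conj, ht, map_conj_one]
  set Good : Set (Set (Subgroup G)) :=
    {S | (∀ D ∈ S, IsComponent D) ∧ (∀ D ∈ S, D.map c ∈ S) ∧ L ≤ sSup S}
  obtain ⟨S, hS, hSmin⟩ := Set.exists_min_image Good (fun S => S.ncard) (Set.toFinite _)
    ⟨{D | IsComponent D}, fun _ h => h, fun _ h => isComponent_conj h t, hLE⟩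
  obtain ⟨hScomp, hSinv, hSL⟩ := hS
  obtain ⟨D, hDS⟩ : S.Nonempty := by
    rw [Set.nonempty_iff_ne_empty]
    rintro rfl
    rw [sSup_empty] at hSL
    exact quasisimple_ne_bot hq (le_bot_iff.mp hSL)
  have hD : IsComponent D := hScomp D hDS
  have hD' : IsComponent (D.map c) := isComponent_conj hD t
  refine ⟨D, hD, ?_⟩
  set P : Subgroup G := D ⊔ D.map c with hP
  have hPt : t ∈ normalizer (P : Set G) := by
    rw [mem_normalizer_iff_map_conj_eq]
    show P.map c = P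
    rw [hP, Subgroup.map_sup, hcc, sup_comm]
  set S' := S \ {D, D.map c} with hS'
  set M := sSup S' with hM
  have hcomp' : ∀ E ∈ S', IsComponent E := fun E hE => hScomp E hE.1
  have hinv' : ∀ E ∈ S', E.map c ∈ S' := by
    intro E hE
    refine ⟨hSinv E hE.1, fun hmem => hE.2 ?_⟩
    rcases hmem with h | h
    · exact Or.inr (by rw [Set.mem_singleton_iff, ← h, hcc])
    · exact Or.inl (by rw [← hcc E, Set.mem_singleton_iff.mp h, hcc])
  have hMt : t ∈ normalizer (M : Set G) := by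
    rw [mem_normalizer_iff_map_conj_eq]
    show M.map c = M
    have h1 : M.map c ≤ M := map_le_iff_le_comap.mpr (sSup_le fun E hE =>
      map_le_iff_le_comap.mp (le_sSup (hinv' E hE)))
    refine le_antisymm h1 ?_
    calc M = (M.map c).map c := (hcc M).symm
      _ ≤ M.map c := map_mono h1
  have hPM : P ≤ centralizer (M : Set G) := le_centralizer_iff.mp (sSup_le fun E hE =>
    le_centralizer_iff.mp (sup_le
      (isComponent_le_centralizer hD (hcomp' E hE) fun h => hE.2 (Or.inl h.symm))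
      (isComponent_le_centralizer hD' (hcomp' E hE) fun h => hE.2 (Or.inr h.symm))))
  have hsup : L ≤ P ⊔ M := by
    refine hSL.trans (sSup_le fun E hE => ?_)
    by_cases hES : E ∈ S'
    · exact le_sup_of_le_right (le_sSup hES)
    · rw [hS', Set.mem_sdiff, not_and, not_not] at hES
      rcases hES hE with h | h
      · exact le_sup_of_le_left (h ▸ le_sup_left)
      · exact le_sup_of_le_left (Set.mem_singleton_iff.mp h ▸ le_sup_right)
  rcases quasisimple_le_or_le hq hLt hsub hPt hMt hPM hsup with h | h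
  · exact h
  · exfalso
    have := hSmin S' ⟨hcomp', hinv', h⟩
    have hlt : S'.ncard < S.ncard := Set.ncard_lt_ncard
      (Set.ssubset_iff_of_subset Set.sdiff_subset |>.mpr ⟨D, hDS, fun h' => h'.2 (Or.inl rfl)⟩)
      (Set.toFinite _)
    omega

/-- The alternatives for a component of `C(t)` inside the layer. -/
theorem centralizer_component_trichotomy (ht : t * t = 1)
    (hLt : L ≤ centralizer ({t} : Set G))
    (hL : IsComponent (L.subgroupOf (centralizer ({t} : Set G)))) (hLE : L ≤ layer G) :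
    ∃ D : Subgroup G, IsComponent D ∧ (L = D ∨ (L < D ∧ D = ⁅D, zpowers t⁆) ∨
      (D.map (MulAut.conj t).toMonoidHom ≠ D ∧
        L = (layer ↥((D ⊔ D.map (MulAut.conj t).toMonoidHom) ⊓ centralizer ({t} : Set G))).map
          ((D ⊔ D.map (MulAut.conj t).toMonoidHom) ⊓ centralizer ({t} : Set G)).subtype)) := by
  have hq : IsQuasisimple L := (quasisimple_subgroupOf_iff hLt).mp hL.2
  obtain ⟨D, hD, hLD⟩ := exists_component_le_orbit ht hq hLt hL.1 hLE
  refine ⟨D, hD, ?_⟩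
  set c := (MulAut.conj t).toMonoidHom with hc
  set C := centralizer ({t} : Set G) with hC
  have htinv : t⁻¹ = t := inv_eq_of_mul_eq_one_right ht
  by_cases hDD : D.map c = D
  · rw [hDD, sup_idem] at hLD
    rcases eq_or_lt_of_le hLD with h | h
    · exact Or.inl h
    refine Or.inr (Or.inl ⟨h, ?_⟩)
    have hle : ⁅D, zpowers t⁆ ≤ D := by
      rw [commutator_le]
      rintro x hx _ ⟨n, rfl⟩
      have htn : t ^ n ∈ normalizer (D : Set G) :=
        zpow_mem (mem_normalizer_iff_map_conj_eq.mpr hDD) n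
      rw [commutatorElement_def, show x * t ^ n * x⁻¹ * (t ^ n)⁻¹ =
        x * (t ^ n * x⁻¹ * (t ^ n)⁻¹) by group]
      exact mul_mem hx ((mem_normalizer_iff.mp htn _).mp (inv_mem hx))
    haveI hnD : ((⁅D, zpowers t⁆).subgroupOf D).Normal :=
      normal_subgroupOf_of_le_normalizer (normalizer_commutator_ge_left D (zpowers t))
    rcases quasisimple_normal_eq_top_or_le_center hD.2 ((⁅D, zpowers t⁆).subgroupOf D) with h1 | h1
    · exact le_antisymm (subgroupOf_eq_top.mp h1) hle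
    · exfalso
      have htC : t ∈ centralizer (D : Set G) := by
        refine centralizes_of_central (quasisimple_commutator_self hD.2) fun x hx => ?_
        have hy : ⁅x, t⁆ ∈ ⁅D, zpowers t⁆ := commutator_mem_commutator hx (mem_zpowers t)
        have hyc := h1 (show (⟨_, hle hy⟩ : D) ∈ (⁅D, zpowers t⁆).subgroupOf D from hy)
        have e : t * x * t⁻¹ * x⁻¹ = ⁅x, t⁆⁻¹ := by simp only [commutatorElement_def]; group
        rw [e]
        refine inv_mem (mem_inf.mpr ⟨hle hy, ?_⟩)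
        rw [mem_centralizer_iff]
        exact fun y hyD => congrArg Subtype.val (mem_center_iff.mp hyc ⟨y, hyD⟩)
      have hDC : D ≤ C := fun x hx =>
        mem_centralizer_singleton_iff.mpr (mem_centralizer_iff.mp htC x hx)
      have h2 : L.subgroupOf C = D.subgroupOf C :=
        isComponent_eq_of_le hL (isComponent_subgroupOf hD hDC) fun x hx => hLD hx
      exact h.ne (by rw [← map_subgroupOf_eq_of_le hLt, h2, map_subgroupOf_eq_of_le hDC])
  refine Or.inr (Or.inr ⟨hDD, ?_⟩)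
  set P := D ⊔ D.map c with hP
  set Q := P ⊓ C with hQ
  have hD' : IsComponent (D.map c) := isComponent_conj hD t
  have hcomm : ∀ a ∈ D, ∀ b ∈ D.map c, Commute a b := fun a ha b hb =>
    mem_centralizer_iff.mp (isComponent_le_centralizer hD' hD hDD hb) a ha
  let d : D →* G :=
    { toFun := fun x => (x : G) * (t * x * t⁻¹)
      map_one' := by simp
      map_mul' := fun x y => by
        have h := (hcomm y y.2 _ (⟨x, x.2, rfl⟩ : t * (x : G) * t⁻¹ ∈ D.map c)).eq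
        push_cast
        calc (x : G) * y * (t * (x * y) * t⁻¹)
            = x * ((y : G) * (t * x * t⁻¹)) * (t * y * t⁻¹) := by group
          _ = x * ((t * x * t⁻¹) * y) * (t * y * t⁻¹) := by rw [h]
          _ = x * (t * x * t⁻¹) * (y * (t * y * t⁻¹)) := by group }
  have hd : ∀ x : D, d x = (x : G) * (t * x * t⁻¹) := fun _ => rfl
  have hdC : ∀ x : D, d x ∈ C := by
    intro x
    rw [hC, mem_centralizer_singleton_iff, hd]
    have h := (hcomm x x.2 _ (⟨x, x.2, rfl⟩ : t * (x : G) * t⁻¹ ∈ D.map c)).eq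
    rw [htinv] at h ⊢
    calc (x : G) * (t * x * t) * t = x * (t * x) * (t * t) := by simp only [mul_assoc]
      _ = (t * t) * x * (t * x) := by rw [ht, mul_one, one_mul]
      _ = t * (t * x * t * x) := by simp only [mul_assoc]
      _ = t * (x * (t * x * t)) := by rw [h]
  have hdQ : d.range ≤ Q := by
    rintro _ ⟨x, rfl⟩
    exact mem_inf.mpr ⟨mul_mem (mem_sup_left x.2) (mem_sup_right ⟨x, x.2, rfl⟩), hdC x⟩
  have hdecQ : ∀ m ∈ Q, ∃ x : D, ∃ z ∈ centralizer (P : Set G), m = d x * z := by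
    intro m hm
    have hm' : m ∈ ((D ⊔ D.map c : Subgroup G) : Set G) := hm.1
    rw [coe_mul_of_left_le_normalizer_right D (D.map c)
      ((isComponent_le_centralizer hD hD' (Ne.symm hDD)).trans
        (centralizer_le_normalizer_self _))] at hm'
    obtain ⟨x, hx, y, hy, hxy⟩ := hm'
    have hxy' : x * y = m := hxy
    refine ⟨⟨x, hx⟩, (t * x * t⁻¹)⁻¹ * y, ?_, ?_⟩
    · have hx' : t * x * t⁻¹ ∈ D.map c := ⟨x, hx, rfl⟩
      have hy' : t * y * t⁻¹ ∈ D := by
        obtain ⟨y₀, hy₀, rfl⟩ := hy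
        show t * (t * y₀ * t⁻¹) * t⁻¹ ∈ D
        rw [show t * (t * y₀ * t⁻¹) * t⁻¹ = (t * t) * y₀ * (t * t)⁻¹ by group, ht]
        simpa using hy₀
      have e : (t * y * t⁻¹) * (t * x * t⁻¹) = x * y := by
        rw [show t * y * t⁻¹ * (t * x * t⁻¹) = t * (y * x) * t⁻¹ by group, ← (hcomm x hx y hy).eq,
          hxy', ← mem_centralizer_singleton_iff.mp hm.2, mul_inv_cancel_right]
      have h1 : (t * x * t⁻¹)⁻¹ * y ∈ D.map c := mul_mem (inv_mem hx') hy
      have h2 : (t * x * t⁻¹)⁻¹ * y ∈ D := by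
        have e2 : (t * x * t⁻¹)⁻¹ * y = x⁻¹ * (t * y * t⁻¹) := by
          have c' := (hcomm _ hy' _ hx').eq
          rw [c'] at e
          rw [show y = x⁻¹ * (t * x * t⁻¹ * (t * y * t⁻¹)) by rw [e]; group]
          have := (hcomm x⁻¹ (inv_mem hx) (t * x * t⁻¹)⁻¹ (inv_mem hx')).eq
          rw [show t * (x⁻¹ * (t * x * t⁻¹ * (t * y * t⁻¹))) * t⁻¹ = t * y * t⁻¹ by
            rw [e]; group]
          rw [← mul_assoc _ x⁻¹, ← this]
          group
        rw [e2]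
        exact mul_mem (inv_mem hx) hy'
      refine le_centralizer_iff.mp (sup_le ?_ ?_ :
        P ≤ centralizer ((zpowers ((t * x * t⁻¹)⁻¹ * y) : Subgroup G) : Set G)) (mem_zpowers _)
      · intro w hw
        rw [mem_centralizer_iff]
        rintro _ ⟨n, rfl⟩
        exact (hcomm w hw _ (zpow_mem h1 n)).eq.symm
      · intro w hw
        rw [mem_centralizer_iff]
        rintro _ ⟨n, rfl⟩
        exact (hcomm _ (zpow_mem h2 n) w hw).eq
    · rw [hd, ← hxy']
      group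
  have hne : d.range ≠ ⊥ := by
    intro hbot
    refine isComponent_not_le_centralizer hD fun x hx => ?_
    have h : d ⟨x, hx⟩ = 1 := by
      rw [← Subgroup.mem_bot, ← hbot]; exact ⟨⟨x, hx⟩, rfl⟩
    rw [hd] at h
    have hx' : x ∈ D.map c := by
      rw [show x = (t * x * t⁻¹)⁻¹ from eq_inv_of_mul_eq_one_left h]
      exact inv_mem ⟨x, hx, rfl⟩
    rw [mem_centralizer_iff]
    exact fun w hw => (hcomm w hw x hx').eq
  haveI : Nontrivial d.range := (nontrivial_iff_ne_bot _).mpr hne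
  have hqd : IsQuasisimple d.range := quasisimple_of_surjective hD.2 (f := d.rangeRestrict)
    d.rangeRestrict_surjective
  haveI hnormQ : (d.range.subgroupOf Q).Normal := ⟨fun n hn g => by
    rw [Subgroup.mem_subgroupOf] at hn ⊢
    obtain ⟨x, z, hz, hg⟩ := hdecQ g g.2
    have hzn := mem_centralizer_iff.mp hz (n : G) (hdQ hn).1
    show (g : G) * n * (g : G)⁻¹ ∈ d.range
    rw [hg, show d x * z * (n : G) * (d x * z)⁻¹ = d x * (z * n * z⁻¹) * (d x)⁻¹ by group, ← hzn,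
      mul_inv_cancel_right]
    exact mul_mem (mul_mem ⟨x, rfl⟩ hn) (inv_mem ⟨x, rfl⟩)⟩
  have hcd : IsComponent (d.range.subgroupOf Q) :=
    ⟨Normal.isSubnormal inferInstance, (quasisimple_subgroupOf_iff hdQ).mpr hqd⟩
  have huniq : ∀ E : Subgroup Q, IsComponent E → E = d.range.subgroupOf Q := by
    intro E hE
    by_contra hEd
    refine isComponent_not_le_centralizer hE fun e he => ?_
    rw [mem_centralizer_iff]
    intro e' he'
    have h := isComponent_le_centralizer hE hcd hEd he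
    obtain ⟨x, z, hz, hg⟩ := hdecQ e' e'.2
    refine Subtype.ext ?_
    show (e' : G) * e = e * e'
    have h1 : d x * (e : G) = e * d x := congrArg Subtype.val (mem_centralizer_iff.mp h
      ⟨d x, hdQ ⟨x, rfl⟩⟩ (⟨x, rfl⟩ : d x ∈ d.range))
    have h2 : z * (e : G) = e * z := (mem_centralizer_iff.mp hz e e.2.1).symm
    rw [hg, mul_assoc, h2, ← mul_assoc, h1, mul_assoc]
  have hlayer : layer Q = d.range.subgroupOf Q :=
    le_antisymm (layer_le_iff.mpr fun E hE => (huniq E hE).le) (isComponent_le_layer hcd)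
  rw [hlayer, map_subgroupOf_eq_of_le hdQ]
  have hLQ : L ≤ Q := le_inf hLD hLt
  have hsubQ : IsComponent (L.subgroupOf Q) :=
    ⟨hL.1.comap (Subgroup.inclusion (inf_le_right : Q ≤ C)),
      (quasisimple_subgroupOf_iff hLQ).mpr hq⟩
  rw [← map_subgroupOf_eq_of_le hdQ, ← huniq _ hsubQ, map_subgroupOf_eq_of_le hLQ]

end Cfsg.Agent.Lib.StandardAlt
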